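import Cfsg.Agent.H389.NR.Fr
import Cfsg.Agent.S2366
import Cfsg.Agent.H372.U3Spec
import Cfsg.Agent.H358.NR.PsuBig

/-!
# `PSU_n(q)` has not the element orders of a nonsolvable Frobenius group (helper358, for S3440)
-/

set_option autoImplicit false

namespace Cfsg.Agent.H358.NR

open Cfsg.Agent.H389.JSq (Has)
open Cfsg.Agent.H389.NR (Fr)
open Cfsg.Agent.ClassicalGeometry.GUBasic (two_le)
open Cfsg.Agent.H127.UnitRoots (exists_eq_pow)

variable {F : Type*} [Field F] [Fintype F] {q : ℕ}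

theorem sq_sub_dvd_of_odd {q : ℕ} (h : q % 2 = 1) : 8 ∣ q ^ 2 - 1 := by
  obtain ⟨t, rfl⟩ : ∃ t, q = 2 * t + 1 := ⟨q / 2, by omega⟩
  have e : (2 * t + 1) ^ 2 - 1 = 4 * (t * (t + 1)) := by
    have : (2 * t + 1) ^ 2 = 4 * (t * (t + 1)) + 1 := by ring
    omega
  rw [e]
  obtain ⟨r, hr⟩ := Nat.even_mul_succ_self t
  exact ⟨r, by rw [hr]; ring⟩

theorem sq_sub_dvd_three {q : ℕ} (h : ¬ 3 ∣ q) : 3 ∣ q ^ 2 - 1 := by
  have h1 : q ^ 2 % 3 = 1 := by
    rw [Nat.pow_mod]
    have : q % 3 = 1 ∨ q % 3 = 2 := by omega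
    rcases this with h | h <;> rw [h]
  omega

theorem five_case {q : ℕ} (h : ¬ 5 ∣ q) : 5 ∣ q ^ 2 - 1 ∨ 5 ∣ q ^ 2 + 1 := by
  have h0 : 1 ≤ q ^ 2 := Nat.one_le_pow _ _ (by omega)
  have h1 : q ^ 2 % 5 = 1 ∨ q ^ 2 % 5 = 4 := by
    rw [Nat.pow_mod]
    have : q % 5 = 1 ∨ q % 5 = 2 ∨ q % 5 = 3 ∨ q % 5 = 4 := by omega
    rcases this with h | h | h | h <;> rw [h] <;> simp
  omega

/-- `PSU_3(q)`, `q` odd -/
theorem not_fr_psu_three_odd (p : ℕ) [hp : Fact p.Prime] [CharP F p] (hp2 : p ≠ 2) (hF : Fintype.card F = q ^ 2) :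
    ¬ Fr (Cfsg.PSU 3 F q) := by
  intro h
  have hq2 := two_le hF
  obtain ⟨f, hqf, hf⟩ := exists_eq_pow hF p
  have hom : ∀ n, Has (Cfsg.PSU 3 F q) n ↔ n ∣ q + 1 ∨ n ∣ p * (q + 1) / Nat.gcd 3 (q + 1) ∨
      n ∣ (q ^ 2 - 1) / Nat.gcd 3 (q + 1) ∨ n ∣ (q ^ 2 - q + 1) / Nat.gcd 3 (q + 1) := by
    intro n
    have h1 := Set.ext_iff.1 (Cfsg.Agent.S2366.result p hp2 q hF) n
    simpa only [Has, Set.mem_range, Set.mem_union, Set.mem_ofPred_eq, or_assoc] using h1
  have hqodd : q % 2 = 1 := by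
    rw [hqf]
    have hpo := hp.out.eq_two_or_odd.resolve_left hp2
    exact Nat.odd_iff.1 ((Nat.odd_iff.2 hpo).pow)
  have h8 := sq_sub_dvd_of_odd hqodd
  set d := Nat.gcd 3 (q + 1) with hd
  have hd3 : d = 1 ∨ d = 3 := by
    have : d ∣ 3 := Nat.gcd_dvd_left _ _
    exact (Nat.dvd_prime Nat.prime_three).1 this
  have hd0 : 0 < d := by rcases hd3 with h | h <;> rw [h] <;> norm_num
  have hdq : d ∣ q + 1 := Nat.gcd_dvd_right _ _
  have hsq : q ^ 2 - 1 = (q + 1) * (q - 1) := by simpa using Nat.sq_sub_sq q 1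
  have hdsq : d ∣ q ^ 2 - 1 := by rw [hsq]; exact hdq.mul_right _
  have hdp : d ∣ p * (q + 1) := hdq.mul_left _
  have hmul : d * ((q ^ 2 - 1) / d) = q ^ 2 - 1 := Nat.mul_div_cancel' hdsq
  have hmulp : d * (p * (q + 1) / d) = p * (q + 1) := Nat.mul_div_cancel' hdp
  have hodd : (q ^ 2 - q + 1) % 2 = 1 := by
    have h1 : q ^ 2 - q = q * (q - 1) := by rw [Nat.mul_sub, mul_one, sq]
    rw [h1]
    obtain ⟨t, ht⟩ : ∃ t, q - 1 = 2 * t := ⟨(q - 1) / 2, by omega⟩
    have h2 : q * (q - 1) = 2 * (q * t) := by rw [ht]; ring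
    omega
  have hnn : ∀ n, 2 ∣ n → ¬ n ∣ (q ^ 2 - q + 1) / d := by
    intro n hn hnd
    have h1 : (q ^ 2 - q + 1) / d ∣ q ^ 2 - q + 1 := by
      apply Nat.div_dvd_of_dvd
      have h2 : q ^ 2 - q + 1 + 3 * q = (q + 1) ^ 2 := by
        have : q ≤ q ^ 2 := by nlinarith
        have e : (q + 1) ^ 2 = q ^ 2 + 2 * q + 1 := by ring
        omega
      have h3 : d ∣ q ^ 2 - q + 1 + 3 * q := by
        rw [h2]
        exact hdq.trans (dvd_pow_self _ (by norm_num))
      have h4 : d ∣ 3 * q := (Nat.gcd_dvd_left 3 (q + 1)).mul_right q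
      exact (Nat.dvd_add_left h4).1 h3
    have := (hn.trans hnd).trans h1
    omega
  have hcop : ∀ n : ℕ, Nat.Coprime n 3 → n ∣ q ^ 2 - 1 → n ∣ (q ^ 2 - 1) / d := by
    intro n hn hnd
    have hnd' : Nat.Coprime n d := Nat.Coprime.coprime_dvd_right (Nat.gcd_dvd_left _ _) hn
    rw [← hmul] at hnd
    exact hnd'.dvd_of_dvd_mul_left hnd
  by_cases hp5 : p = 5
  · -- characteristic five
    have hq4 : q % 4 = 1 := by
      rw [hqf, hp5, Nat.pow_mod]
      norm_num
    have h3q : ¬ 3 ∣ q := by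
      rw [hqf, hp5]
      intro h3
      have := Nat.prime_three.dvd_of_dvd_pow h3
      omega
    have h3 := sq_sub_dvd_three h3q
    have h24 : 24 ∣ q ^ 2 - 1 := by omega
    rcases hd3 with hd1 | hd1
    · apply h.twentyfour
      rw [hom]
      exact Or.inr (Or.inr (Or.inl (by rw [hd1, Nat.div_one]; exact h24)))
    · have hh8 : Has (Cfsg.PSU 3 F q) 8 := by
        rw [hom]
        exact Or.inr (Or.inr (Or.inl (hcop 8 (by norm_num) h8)))
      have hh12 := h.twelve hh8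
      rw [hom] at hh12
      rw [hd1] at hmul hmulp
      rcases hh12 with h12 | h12 | h12 | h12
      · omega
      · rw [hd1] at h12
        obtain ⟨t, ht⟩ := h12
        rw [ht, hp5] at hmulp
        omega
      · rw [hd1] at h12
        obtain ⟨t, ht⟩ := h12
        rw [ht] at hmul
        apply h.twentyfour
        rw [hom]
        refine Or.inr (Or.inr (Or.inl ?_))
        rw [hd1, ht]
        have : 8 ∣ 3 * (12 * t) := by rw [hmul]; exact h8
        omega
      · exact hnn 12 (by norm_num) h12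
  · -- other characteristics
    have h10 := h.ten
    rw [hom] at h10
    have h5 : 5 ∣ q ^ 2 - 1 := by
      rcases h10 with h10 | h10 | h10 | h10
      · rw [hsq]
        exact ((by norm_num : 5 ∣ 10).trans h10).mul_right _
      · have h1 : 5 ∣ p * (q + 1) := by
          rw [← hmulp]
          exact ((by norm_num : 5 ∣ 10).trans h10).mul_left _
        rcases (Nat.Prime.dvd_mul Nat.prime_five).1 h1 with h2 | h2
        · exact absurd ((Nat.prime_dvd_prime_iff_eq Nat.prime_five hp.out).1 h2).symm hp5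
        · rw [hsq]
          exact h2.mul_right _
      · rw [← hmul]
        exact ((by norm_num : 5 ∣ 10).trans h10).mul_left _
      · exact absurd h10 (hnn 10 (by norm_num))
    have h40 : 40 ∣ q ^ 2 - 1 := by omega
    apply h.twenty
    rw [hom]
    exact Or.inr (Or.inr (Or.inl ((by norm_num : 20 ∣ 40).trans (hcop 40 (by norm_num) h40))))

/-- `PSU_3(q)`, `q` even -/
theorem not_fr_psu_three_even [CharP F 2] (hF : Fintype.card F = q ^ 2) (h2 : q ≠ 2) : ¬ Fr (Cfsg.PSU 3 F q) := by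
  intro h
  have hf : Fact (Nat.Prime 2) := ⟨Nat.prime_two⟩
  have hq2 := two_le hF
  obtain ⟨k, hqf, hk⟩ := exists_eq_pow hF 2
  have he : Even q := by rw [hqf]; exact (even_two).pow_of_ne_zero (by omega)
  obtain ⟨g, hg⟩ := h.ten
  have h1 := H372.U3.om_psu hF g
  rw [hg] at h1
  rcases H372.U3.om_even (by omega) he h1 (by norm_num) with h3 | ⟨t, ht, ht2⟩
  · norm_num at h3
  · have ht5 : t = 5 := by omega
    rw [ht5] at ht
    have h5 : 5 ∣ q + 1 := ht.trans (Nat.div_dvd_of_dvd (Nat.gcd_dvd_right 3 (q + 1)))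
    have hpow : ∀ r : ℕ, 2 ^ (4 * r) % 15 = 1 := by
      intro r
      rw [pow_mul, Nat.pow_mod]
      norm_num
    have hk4 : k % 4 = 2 := by
      obtain ⟨r, s, hs, hks⟩ : ∃ r s : ℕ, s < 4 ∧ k = 4 * r + s := ⟨k / 4, k % 4, Nat.mod_lt _ (by norm_num), by omega⟩
      have h6 := hpow r
      have h7 : q = 2 ^ (4 * r) * 2 ^ s := by rw [hqf, hks, pow_add]
      interval_cases s <;> omega
    obtain ⟨r, hr⟩ : ∃ r, k = 4 * r + 2 := ⟨k / 4, by omega⟩
    have h6 := hpow r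
    have h7 : q = 2 ^ (4 * r) * 4 := by rw [hqf, hr, pow_add]; norm_num
    have hq15 : q % 15 = 4 := by omega
    have hd : H372.U3.dd q = 1 := by
      have h8 : H372.U3.dd q ∣ 3 := Nat.gcd_dvd_left _ _
      have h9 : H372.U3.dd q ∣ q + 1 := Nat.gcd_dvd_right _ _
      rcases (Nat.dvd_prime Nat.prime_three).1 h8 with h | h
      · exact h
      · rw [h] at h9
        omega
    apply h.fifteen
    rw [hqf] at hF hd ⊢
    refine H372.U3.exists_om hk hF ?_
    refine Or.inr (Or.inr (Or.inl ?_))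
    rw [hd, Nat.div_one, ← hqf]
    have h8 : q ^ 2 % 15 = 1 := by rw [Nat.pow_mod, hq15]
    omega

/-- `PSU_n(q)`, `n ≥ 4` -/
theorem not_fr_psu_four (hF : Fintype.card F = q ^ 2) (l : ℕ) : ¬ Fr (Cfsg.PSU (4 + l) F q) := by
  intro h
  have hq2 := two_le hF
  obtain ⟨p, hp⟩ := CharP.exists F
  have hpp : p.Prime := (CharP.char_is_prime_or_zero F p).resolve_right (CharP.char_ne_zero_of_finite F p)
  have hf : Fact p.Prime := ⟨hpp⟩
  obtain ⟨k, hqf, hk⟩ := exists_eq_pow hF p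
  by_cases h2 : p = 2
  · subst h2
    rcases Nat.even_or_odd k with ⟨r, hr⟩ | ⟨r, hr⟩
    · apply h.fifteen
      refine ex_torus hF ?_
      have h1 : q ^ 2 = 16 ^ r := by
        rw [hqf, hr, ← pow_mul, show (r + r) * 2 = 4 * r by ring, pow_mul]
        norm_num
      have h3 : 16 ^ r % 15 = 1 := by rw [Nat.pow_mod]; norm_num
      omega
    · apply h.nine
      refine ex_nine_mono hF ?_
      have h3 : 4 ^ r % 3 = 1 := by rw [Nat.pow_mod]; norm_num
      have h1 : q = 4 ^ r * 2 := by rw [hqf, hr, pow_add, pow_mul, pow_one]; norm_num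
      omega
  by_cases h3 : p = 3
  · subst h3
    exact h.nine (ex_nine_unip hF)
  · apply h.twentyfour
    refine ex_torus hF ?_
    have hqodd : q % 2 = 1 := by
      rw [hqf]
      have hpo := hpp.eq_two_or_odd.resolve_left h2
      exact Nat.odd_iff.1 ((Nat.odd_iff.2 hpo).pow)
    have h8 := sq_sub_dvd_of_odd hqodd
    have h3q : ¬ 3 ∣ q := by
      rw [hqf]
      intro h4
      exact h3 ((Nat.prime_dvd_prime_iff_eq Nat.prime_three hpp).1 (Nat.prime_three.dvd_of_dvd_pow h4)).symm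
    have h4 := sq_sub_dvd_three h3q
    omega

theorem fr_psu {L : Type*} [Group L] [Finite L] (h : Cfsg.IsPSU L) : ¬ Fr L := by
  obtain ⟨F, _, _, n, q, hF, hn, h32, ⟨e⟩⟩ := h
  intro hL
  have hL' := hL.congr e
  have hq2 := two_le hF
  obtain ⟨p, hp⟩ := CharP.exists F
  have hpp : p.Prime := (CharP.char_is_prime_or_zero F p).resolve_right (CharP.char_ne_zero_of_finite F p)
  have hf : Fact p.Prime := ⟨hpp⟩
  by_cases h3 : n = 3
  · subst h3
    by_cases h2 : p = 2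
    · subst h2
      exact not_fr_psu_three_even hF (fun h => h32 ⟨rfl, h⟩) hL'
    · exact not_fr_psu_three_odd p h2 hF hL'
  · obtain ⟨l, rfl⟩ : ∃ l, n = 4 + l := ⟨n - 4, by omega⟩
    exact not_fr_psu_four hF l hL'

end Cfsg.Agent.H358.NR
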